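import Groth.Agent.CanonDual.Nodal
import Groth.Agent.CanonDual.H1Crit
import Groth.Agent.CurveReg.GG
import Groth.Agent.AmpleX.Generated

/-! Globally generated modules: tensor products. -/

set_option autoImplicit false
set_option linter.style.haveILetI false
set_option linter.unusedSectionVars false
set_option backward.isDefEq.respectTransparency false
set_option backward.isDefEq.respectTransparency.types false

universe u

open CategoryTheory CategoryTheory.Limits AlgebraicGeometry

noncomputable section

namespace Groth.Agent.DefAmple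

open Groth.Agent

variable {X : Scheme.{u}}

theorem gg_of_isGloballyGenerated {F : X.Modules} (h : Curv2.IsGloballyGenerated F) : Euler.GG F := fun T g hg => by
  obtain ⟨ι, q, hq⟩ := h
  rw [← cancel_epi q, comp_zero]
  refine Sigma.hom_ext (f := fun _ : ι => SheafOfModules.unit X.ringCatSheaf) _ _ fun i => ?_
  rw [comp_zero]
  exact (Category.assoc _ _ _).symm.trans
    (hg (Sigma.ι (fun _ : ι => SheafOfModules.unit X.ringCatSheaf) i ≫ q : Coh.structureModule X ⟶ F))

variable (k : Type u) [Field k] [X.Over (Spec (CommRingCat.of k))] [IsProper (X ↘ Spec (CommRingCat.of k))]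

include k in
/-- Tensor products of globally generated modules are globally generated. -/
theorem isGloballyGenerated_tensor {G E : X.Modules} (hE : Coh.IsCoh E) (hG : Curv2.IsGloballyGenerated G)
    (hgg : Curv2.IsGloballyGenerated E) : Curv2.IsGloballyGenerated (CohB1.tensorMod G E) := by
  obtain ⟨n, b, hb⟩ := CurveReg.exists_fin_epi k hE hgg
  haveI := hb
  let O : Fin n → X.Modules := fun _ => Coh.structureModule X
  let p : (⨁ O) ⟶ E := biproduct.desc fun i => QCoh.homOfTop (b i)
  let F := DCoh.tensorBi.obj G
  haveI : PreservesFiniteColimits F := CanonDual.preservesFiniteColimits_tensor G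
  haveI : F.Additive := Functor.additive_of_preserves_binary_products F
  haveI : Epi p := hb
  haveI : Epi (F.map p) := inferInstance
  refine Euler.GG.isGloballyGenerated fun T g hg => ?_
  rw [← cancel_epi (F.map p)]
  have hp : p = ∑ i, biproduct.π O i ≫ QCoh.homOfTop (b i) := biproduct.desc_eq
  refine Eq.trans ?_ comp_zero.symm
  rw [hp, F.map_sum, Preadditive.sum_comp]
  refine Finset.sum_eq_zero fun i _ => ?_
  have hc : (KFlatLib.tensorUnitIso G).inv ≫ F.map (QCoh.homOfTop (b i)) ≫ g = 0 :=
    gg_of_isGloballyGenerated hG _ _ fun s => by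
      refine ((Category.assoc _ _ _).symm.trans (Category.assoc _ _ _).symm).trans ?_
      exact hg _
  rw [Functor.map_comp, Category.assoc,
    show F.map (QCoh.homOfTop (b i)) ≫ g = 0 from by
      rw [← cancel_epi (KFlatLib.tensorUnitIso G).inv, hc]
      exact comp_zero.symm]
  exact comp_zero

include k in
/-- Powers of a globally generated bundle. -/
theorem isGloballyGenerated_tensorPow {E : X.Modules} (hE : FlatMod.IsFinLocFree E)
    (hgg : Curv2.IsGloballyGenerated E) : ∀ n : ℕ, Curv2.IsGloballyGenerated (CohB1.tensorPow E n)
  | 0 => Euler.GG.isGloballyGenerated fun T g hg => by simpa using hg (𝟙 _)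
  | n + 1 =>
    haveI := CurveCohLib.isNoetherian_of_proper (k := k) (X := X)
    isGloballyGenerated_tensor k (CurveDeg.isCoh_of_isFinLocFree hE)
      (isGloballyGenerated_tensorPow hE hgg n) hgg

include k in
theorem isCoh_tensorPow {E : X.Modules} (hE : FlatMod.IsFinLocFree E) :
    ∀ n : ℕ, Coh.IsCoh (CohB1.tensorPow E n) := by
  haveI := CurveCohLib.isNoetherian_of_proper (k := k) (X := X)
  intro n
  induction n with
  | zero => exact QCoh.isCoh_structureModule'
  | succ n ih =>
    obtain ⟨c⟩ := H23.PicMul.comm E (CohB1.tensorPow E n)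
    exact SheafHomX.isCoh_of_iso c (CurveTensor.isCoh_tensor hE ih)

end Groth.Agent.DefAmple
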