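import Groth.Agent.DefAmple.Basic
import Groth.Agent.S10945
import Groth.Agent.S1527
import Groth.Agent.S17650

/-! Deformation ample bundles on genus zero curves. -/

set_option autoImplicit false
set_option linter.style.haveILetI false
set_option linter.unusedSectionVars false
set_option backward.isDefEq.respectTransparency false
set_option backward.isDefEq.respectTransparency.types false

universe u

open CategoryTheory CategoryTheory.Limits AlgebraicGeometry TopologicalSpace Opposite
open Groth.Agent.PnCoh.Finite (mapLin deltaLin)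

noncomputable section

namespace Groth.Agent.DefAmple

open Groth.Agent

variable (k : Type u) [Field k] {X : Scheme.{u}} [X.Over (Spec (CommRingCat.of k))]
  [IsProper (X ↘ Spec (CommRingCat.of k))]

include k in
/-- A map with cokernel on closed points keeps `H¹ = 0`. -/
theorem subsingleton_h1_of_finite_coker (hdim : topologicalKrullDim X ≤ 1) {N M : X.Modules}
    (hN : Coh.IsCoh N) (hM : Coh.IsCoh M) (φ : N ⟶ M)
    (hcl : ∀ x ∈ CohB1.support (cokernel φ), IsClosed ({x} : Set X)) (h : Subsingleton (Coh.HH X N 1)) :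
    Subsingleton (Coh.HH X M 1) := by
  haveI := CurveCohLib.isNoetherian_of_proper (k := k) (X := X)
  have hQ : Coh.IsCoh (cokernel φ) := QCoh.isCoh_cokernel hN.1 hM φ
  have hK : Coh.IsCoh (kernel (cokernel.π φ)) := QCoh.isCoh_kernel hM hQ _
  haveI h1 : Subsingleton (Coh.HH X (kernel (cokernel.π φ)) 1) :=
    CurveReg.subsingleton_h1_of_epi k hdim hN.1 hK.1 (Abelian.factorThruImage φ) h
  have hS : (ShortComplex.mk (kernel.ι (cokernel.π φ)) (cokernel.π φ) (kernel.condition _)).ShortExact :=
    .mk' (ShortComplex.exact_kernel _) inferInstance inferInstance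
  haveI h2 : Subsingleton (Coh.HH X (cokernel φ) 1) := CurveVanish.subsingleton_HH_of_finite
    (CurveCohLib.finite_of_closedPoints (QCoh.isClosed_support_of_isFT hQ.1 hQ.2) hcl) hcl
    (fun x hx => not_not.1 hx) 0
  refine subsingleton_of_forall_eq 0 fun y => ?_
  obtain ⟨z, rfl⟩ := (CurveCohLib.ker_mapLin_g k hS 1).le (LinearMap.mem_ker.2 (h2.elim _ 0) : y ∈ _)
  rw [h1.elim z 0]
  exact map_zero _

include k in
/-- An extension of globally generated modules splits sections when the sub has no `H¹`. -/
theorem isGloballyGenerated_ext {S : ShortComplex X.Modules} (hS : S.ShortExact)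
    (h1 : Subsingleton (Coh.HH X S.X₁ 1)) (hg1 : Curv2.IsGloballyGenerated S.X₁)
    (hg3 : Curv2.IsGloballyGenerated S.X₃) : Curv2.IsGloballyGenerated S.X₂ := by
  refine S10945.result X S hS (fun v => ?_) hg1 hg3
  obtain ⟨t, ht⟩ := (CurveCohLib.ker_deltaLin k hS 0).le
    (LinearMap.mem_ker.2 (h1.elim _ 0) : (Sheaf.H.equiv₀ (Coh.toAb S.X₃) isTerminalTop).symm v ∈ _)
  refine ⟨Sheaf.H.equiv₀ (Coh.toAb S.X₂) isTerminalTop t, ?_⟩
  refine Eq.trans ?_ ((congrArg (Sheaf.H.equiv₀ (Coh.toAb S.X₃) isTerminalTop) ht).trans (AddEquiv.apply_symm_apply _ _))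
  exact Sheaf.H.equiv₀_naturality isTerminalTop ((QCoh.toAbFunctor X).map S.g) t

include k in
/-- A map with cokernel on closed points carries global generation along. -/
theorem isGloballyGenerated_of_finite_coker (hdim : topologicalKrullDim X ≤ 1) {N M : X.Modules}
    (hN : Coh.IsCoh N) (hM : Coh.IsCoh M) (φ : N ⟶ M)
    (hcl : ∀ x ∈ CohB1.support (cokernel φ), IsClosed ({x} : Set X)) (h : Subsingleton (Coh.HH X N 1))
    (hgg : Curv2.IsGloballyGenerated N) : Curv2.IsGloballyGenerated M := by
  haveI := CurveCohLib.isNoetherian_of_proper (k := k) (X := X)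
  have hQ : Coh.IsCoh (cokernel φ) := QCoh.isCoh_cokernel hN.1 hM φ
  have hK : Coh.IsCoh (kernel (cokernel.π φ)) := QCoh.isCoh_kernel hM hQ _
  have hgK : Curv2.IsGloballyGenerated (kernel (cokernel.π φ)) := by
    obtain ⟨ι, q, hq⟩ := hgg
    exact ⟨ι, q ≫ Abelian.factorThruImage φ, epi_comp _ _⟩
  have hS : (ShortComplex.mk (kernel.ι (cokernel.π φ)) (cokernel.π φ) (kernel.condition _)).ShortExact :=
    .mk' (ShortComplex.exact_kernel _) inferInstance inferInstance
  have hfin := CurveCohLib.finite_of_closedPoints (QCoh.isClosed_support_of_isFT hQ.1 hQ.2) hcl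
  have hdim0 : topologicalKrullDim (CohB1.support (cokernel φ)) ≤ 0 := by
    haveI : Finite (CohB1.support (cokernel φ)) := hfin
    haveI : T1Space (CohB1.support (cokernel φ)) := ⟨fun z => by
      have h3 : ({z} : Set (CohB1.support (cokernel φ))) = Subtype.val ⁻¹' {(z : X)} := by
        ext w; simp [Subtype.ext_iff]
      rw [h3]
      exact (hcl z z.2).preimage continuous_subtype_val⟩
    exact topologicalKrullDim_zero_of_discreteTopology _
  exact isGloballyGenerated_ext k hS
    (CurveReg.subsingleton_h1_of_epi k hdim hN.1 hK.1 (Abelian.factorThruImage φ) h) hgK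
    (S1527.result k X (cokernel φ) hQ hdim0)

end Groth.Agent.DefAmple
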